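import Groth.Agent.DixBrauer.TorsionCoh
import Groth.Agent.EtMVLib.MV
import Groth.Agent.EtFound.CoprodSections
import Groth.Agent.EtFound.PullStalk
import Groth.Agent.S0626
import Mathlib.AlgebraicGeometry.FunctionField
import Mathlib.AlgebraicGeometry.Properties
import Mathlib.Topology.Sets.Closeds

/-!
# Étale cohomology of `ℚ` on normal Noetherian schemes
-/

set_option autoImplicit false
set_option backward.isDefEq.respectTransparency.types false

universe u

open CategoryTheory CategoryTheory.Limits CategoryTheory.Abelian AlgebraicGeometry Opposite TopologicalSpace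

namespace Groth.Agent.TorsQ79

/-- Multiplication by a positive integer is invertible on the constant sheaf `ℚ`. -/
theorem isIso_nsmul_const (X : Scheme.{u}) (d : ℕ) (hd : 0 < d) : IsIso (d • 𝟙 (EtCoh.const X ℚ)) := by
  let C := constantSheaf X.smallEtaleTopology AddCommGrpCat.{u + 1}
  have : PreservesFiniteLimits C :=
    @comp_preservesFiniteLimits _ _ _ _ _ _ _ _ inferInstance inferInstance
  have : C.Additive := Functor.additive_of_preserves_binary_products _
  show IsIso (d • 𝟙 (C.obj (AddCommGrpCat.of (ULift.{u + 1} ℚ))))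
  rw [← C.map_id, ← Functor.map_nsmul]
  have : IsIso (d • 𝟙 (AddCommGrpCat.of (ULift.{u + 1} ℚ))) := by
    rw [ConcreteCategory.isIso_iff_bijective]
    have hdne : (d : ℚ) ≠ 0 := Nat.cast_ne_zero.2 hd.ne'
    constructor
    · intro a b hab
      have h : d • a.down = d • b.down := congrArg ULift.down hab
      rw [nsmul_eq_mul, nsmul_eq_mul] at h
      exact ULift.ext _ _ (mul_left_cancel₀ hdne h)
    · intro a
      refine ⟨ULift.up (a.down / d), ULift.ext _ _ ?_⟩
      show d • (a.down / (d : ℚ)) = a.down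
      rw [nsmul_eq_mul, mul_div_cancel₀ _ hdne]
  infer_instance

/-- Torsion cohomology of a uniquely divisible sheaf vanishes. -/
theorem subsingleton_H_of_torsion {X : Scheme.{u}} {F : EtCoh.Ab X} (hdiv : ∀ d : ℕ, 0 < d → IsIso (d • 𝟙 F))
    {i : ℕ} (ht : ∀ x : EtCoh.H X F i, IsOfFinAddOrder x) : Subsingleton (EtCoh.H X F i) := by
  refine subsingleton_of_forall_eq 0 fun x => ?_
  obtain ⟨d, hd, hdx⟩ := isOfFinAddOrder_iff_nsmul_eq_zero.1 (ht x)
  have := hdiv d hd
  have e : ∀ m : ℕ, x.comp (Ext.mk₀ (m • 𝟙 F)) (add_zero i) = m • x := by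
    intro m
    induction m with
    | zero => simp
    | succ m ih => rw [succ_nsmul, succ_nsmul, Ext.mk₀_add, Ext.comp_add, ih, Ext.comp_mk₀_id]
  have h := congrArg (fun z => z.comp (Ext.mk₀ (inv (d • 𝟙 F))) (add_zero i)) ((e d).trans hdx)
  rw [Ext.comp_assoc_of_second_deg_zero, Ext.mk₀_comp_mk₀, IsIso.hom_inv_id, Ext.comp_mk₀_id,
    Ext.zero_comp] at h
  exact h

/-- Cohomology of an empty scheme vanishes. -/
theorem subsingleton_H_of_isEmpty (X : Scheme.{u}) [IsEmpty X] (F : EtCoh.Ab X) (i : ℕ) :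
    Subsingleton (EtCoh.H X F i) := by
  have h0 : 𝟙 F = 0 := by
    refine Sheaf.hom_ext (NatTrans.ext (funext fun U => ?_))
    let g : (unop U).left ⟶ X := (unop U).hom
    haveI : IsEmpty (unop U).left := Function.isEmpty g.base
    haveI := EtFound.subsingleton_sections_of_isEmpty F (unop U)
    exact AddCommGrpCat.ext fun x => Subsingleton.elim (α := F.obj.obj (op (unop U))) _ _
  refine subsingleton_of_forall_eq 0 fun x => ?_
  rw [← Ext.comp_mk₀_id x, h0, Ext.mk₀_zero, Ext.comp_zero]

/-- Positive degree cohomology of `ℚ` on an integral normal quasi-compact quasi-separated scheme vanishes. -/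
theorem subsingleton_H_of_isIntegral (X : Scheme.{u}) [IsIntegral X] [CompactSpace X] [QuasiSeparatedSpace X]
    (hN : ∀ x : X, IsIntegrallyClosed (X.presheaf.stalk x)) (q : ℕ) :
    Subsingleton (EtCoh.H X (EtCoh.const X ℚ) (q + 1)) := by
  refine subsingleton_H_of_torsion (isIso_nsmul_const X) fun x => ?_
  let g := X.fromSpecStalk (genericPoint X)
  haveI := EtFound.pull_preservesFiniteLimits g
  haveI := S0626.result X hN ℚ
  let η := (EtCoh.pullPushAdj g).unit.app (EtCoh.const X ℚ)
  have ht := DixBrauer.TorsionCoh.isOfFinAddOrder_push (k := X.functionField) g ((EtCoh.pull g).obj (EtCoh.const X ℚ)) q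
    (x.comp (Ext.mk₀ η) (add_zero _))
  have := AddMonoidHom.isOfFinAddOrder ((Ext.mk₀ (inv η)).postcomp (EtCoh.const X ℤ) (add_zero (q + 1))) ht
  change IsOfFinAddOrder (Ext.comp (Ext.comp x (Ext.mk₀ η) (add_zero _)) (Ext.mk₀ (inv η)) (add_zero _)) at this
  rwa [Ext.comp_assoc_of_second_deg_zero, Ext.mk₀_comp_mk₀, IsIso.hom_inv_id, Ext.comp_mk₀_id] at this

/-- An irreducible component through a point with integral local ring is unique. -/
theorem component_unique {X : Scheme.{u}} (x : X) [IsDomain (X.presheaf.stalk x)] {Z : Set X}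
    (hZ : Z ∈ irreducibleComponents X) (hx : x ∈ Z) :
    Z = closure {X.fromSpecStalk x (⟨⊥, Ideal.isPrime_bot⟩ : Spec (X.presheaf.stalk x))} := by
  obtain ⟨η, hη⟩ := QuasiSober.sober hZ.1 (isClosed_of_mem_irreducibleComponents Z hZ)
  have hηx : η ∈ Set.range (X.fromSpecStalk x) := by
    rw [Scheme.range_fromSpecStalk]
    exact hη.specializes hx
  obtain ⟨p, hp⟩ := hηx
  let b : Spec (X.presheaf.stalk x) := ⟨⊥, Ideal.isPrime_bot⟩
  have hs : b ⤳ p := (PrimeSpectrum.le_iff_specializes _ _).1 (show (⊥ : Ideal _) ≤ p.asIdeal from bot_le)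
  have hs' := hs.map (X.fromSpecStalk x).continuous
  rw [hp] at hs'
  have hsub : Z ⊆ closure {X.fromSpecStalk x b} := by
    rw [← hη.def]
    exact specializes_iff_closure_subset.1 hs'
  exact (hZ.2 isIrreducible_singleton.closure hsub).antisymm' hsub

/-- Irreducible components are open on a Noetherian scheme with integral local rings. -/
theorem isOpen_component {X : Scheme.{u}} [NoetherianSpace X] (hd : ∀ x : X, IsDomain (X.presheaf.stalk x))
    {Z : Set X} (hZ : Z ∈ irreducibleComponents X) : IsOpen Z := by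
  let R := irreducibleComponents X \ {Z}
  have hfin : R.Finite := NoetherianSpace.finite_irreducibleComponents.diff
  have hc : IsClosed (⋃₀ R) := by
    rw [Set.sUnion_eq_biUnion]
    exact hfin.isClosed_biUnion fun W hW => isClosed_of_mem_irreducibleComponents W hW.1
  have heq : Z = (⋃₀ R)ᶜ := by
    ext x
    haveI := hd x
    constructor
    · rintro hx ⟨W, ⟨hW, hne⟩, hxW⟩
      exact hne ((component_unique x hW hxW).trans (component_unique x hZ hx).symm)
    · intro hx
      by_contra hxZ
      exact hx ⟨irreducibleComponent x, ⟨irreducibleComponent_mem_irreducibleComponents x,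
        fun h => hxZ (by rw [← (h : irreducibleComponent x = Z)]; exact mem_irreducibleComponent)⟩,
        mem_irreducibleComponent⟩
  rw [heq]
  exact hc.isOpen_compl

/-- Positive degree cohomology of `ℚ` on a normal Noetherian scheme vanishes. -/
theorem subsingleton_H (X : Scheme.{u}) [IsNoetherian X]
    (hN : ∀ x : X, IsDomain (X.presheaf.stalk x) ∧ IsIntegrallyClosed (X.presheaf.stalk x)) (q : ℕ) :
    Subsingleton (EtCoh.H X (EtCoh.const X ℚ) (q + 1)) := by
  suffices H : ∀ (C : Closeds X) (Y : Scheme.{u}) (j : Y ⟶ X) [IsOpenImmersion j], Set.range j.base = C →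
      Subsingleton (EtCoh.H Y (EtCoh.const Y ℚ) (q + 1)) from
    H ⊤ X (𝟙 X) (by simp)
  intro C
  induction C using WellFoundedLT.induction with
  | ind C ih =>
  intro Y j _ hC
  haveI : NoetherianSpace Y := j.isOpenEmbedding.isEmbedding.isInducing.noetherianSpace
  haveI : IsLocallyNoetherian Y := LocallyOfFiniteType.isLocallyNoetherian j
  haveI : IsNoetherian Y := {}
  have hNY : ∀ y : Y, IsDomain (Y.presheaf.stalk y) ∧ IsIntegrallyClosed (Y.presheaf.stalk y) := fun y => by
    let e := (asIso (j.stalkMap y)).commRingCatIsoToRingEquiv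
    obtain ⟨h1, h2⟩ := hN (j.base y)
    haveI := h1
    haveI := h2
    exact ⟨e.toMulEquiv.isDomain_iff.1 h1, IsIntegrallyClosed.of_equiv e⟩
  rcases isEmpty_or_nonempty Y with hY | ⟨⟨y⟩⟩
  · exact subsingleton_H_of_isEmpty Y _ _
  let Z := irreducibleComponent y
  have hZ : Z ∈ irreducibleComponents Y := irreducibleComponent_mem_irreducibleComponents y
  have hZo : IsOpen Z := isOpen_component (fun y => (hNY y).1) hZ
  have hZc : IsClosed Z := isClosed_irreducibleComponent
  by_cases huniv : Z = Set.univ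
  · haveI : IrreducibleSpace Y :=
      { isPreirreducible_univ := huniv ▸ (isIrreducible_irreducibleComponent (x := y)).2
        toNonempty := ⟨y⟩ }
    haveI : ∀ y : Y, _root_.IsReduced (Y.presheaf.stalk y) := fun y => haveI := (hNY y).1; inferInstance
    haveI : IsReduced Y := isReduced_of_isReduced_stalk Y
    haveI : IsIntegral Y := isIntegral_of_irreducibleSpace_of_isReduced Y
    exact subsingleton_H_of_isIntegral Y (fun y => (hNY y).2) q
  let U : Y.Opens := ⟨Z, hZo⟩
  let V : Y.Opens := ⟨Zᶜ, hZc.isOpen_compl⟩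
  have hUV : U ⊔ V = ⊤ := Opens.ext (by simp [U, V])
  have hemb : IsClosed (Set.range j.base) := hC ▸ C.2
  have hcl : Topology.IsClosedEmbedding j.base := ⟨j.isOpenEmbedding.isEmbedding, hemb⟩
  have hpiece : ∀ (O : Y.Opens), IsClosed (O : Set Y) → (O : Set Y) ≠ Set.univ →
      Subsingleton (EtCoh.H O ((EtCoh.pull O.ι).obj (EtCoh.const Y ℚ)) (q + 1)) := by
    intro O hOc hOne
    have hlt : (⟨j.base '' O, hcl.isClosedMap _ hOc⟩ : Closeds X) < C := by
      rw [← SetLike.coe_ssubset_coe, ← hC]
      refine Set.ssubset_iff_of_subset (Set.image_subset_range _ _) |>.2 ?_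
      obtain ⟨z, hz⟩ := (Set.ne_univ_iff_exists_notMem _).1 hOne
      exact ⟨j.base z, ⟨z, rfl⟩, fun ⟨z', hz', he⟩ => hz (j.isOpenEmbedding.injective he ▸ hz')⟩
    have hs := ih _ hlt O (O.ι ≫ j) (by
      rw [Scheme.Hom.comp_base, TopCat.coe_comp, Set.range_comp, Scheme.Opens.range_ι]
      rfl)
    exact @Equiv.subsingleton _ _ ((EtCoh.HF O (q + 1)).mapIso
      ((EtCore.pullConstIso O.ι).app (AddCommGrpCat.of (ULift.{u + 1} ℚ)))).addCommGroupIsoToAddEquiv.toEquiv hs
  haveI := EtFound.pull_preservesFiniteLimits U.ι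
  haveI := EtFound.pull_preservesFiniteLimits V.ι
  haveI := EtFound.pull_preservesFiniteLimits (Y.homOfLE (inf_le_left : U ⊓ V ≤ U))
  haveI := EtFound.pull_preservesFiniteLimits (Y.homOfLE (inf_le_right : U ⊓ V ≤ V))
  obtain ⟨δ, -, hδ, -, -⟩ := EtMVLib.mayerVietoris Y U V hUV (EtCoh.const Y ℚ)
  haveI hUne := hpiece U hZc huniv
  haveI hVne := hpiece V hZo.isClosed_compl (fun h => by
    have : y ∈ (V : Set Y) := h ▸ Set.mem_univ y
    exact this mem_irreducibleComponent)
  haveI : IsEmpty (↑(U ⊓ V) : Scheme) := ⟨fun z => z.2.2 z.2.1⟩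
  haveI := subsingleton_H_of_isEmpty ↑(U ⊓ V) ((EtCoh.pull (U ⊓ V).ι).obj (EtCoh.const Y ℚ)) q
  refine subsingleton_of_forall_eq 0 fun x => ?_
  have hx : x ∈ (δ q).range := by
    rw [← hδ q, AddMonoidHom.mem_ker]
    exact Subsingleton.elim _ _
  obtain ⟨w, rfl⟩ := hx
  rw [Subsingleton.elim w 0, map_zero]

end Groth.Agent.TorsQ79
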