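import Groth.Agent.DualOv79.Pi
import Mathlib.RingTheory.Etale.Basic
import Mathlib.RingTheory.Etale.QuasiFinite

/-!
# Finite étale coverings are cofinal over products of henselian local rings
-/

set_option autoImplicit false

universe u

open IsLocalRing TensorProduct

namespace Groth.Agent.TorsQ79

open Groth.Agent.DualOv79

variable {ι : Type u} (R : ι → Type u) [∀ i, CommRing (R i)] [∀ i, HenselianLocalRing (R i)]

/-- An étale covering of a product of henselian local rings is dominated by a finite étale one. -/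
theorem exists_finite_etale_refinement (B : Type u) [CommRing B] [Algebra (∀ i, R i) B]
    [Algebra.Etale (∀ i, R i) B] [Module.FaithfullyFlat (∀ i, R i) B] :
    ∃ (C : Type u) (_ : CommRing C) (_ : Algebra (∀ i, R i) C), Module.Finite (∀ i, R i) C ∧
      Algebra.Etale (∀ i, R i) C ∧ Module.FaithfullyFlat (∀ i, R i) C ∧ Nonempty (B →ₐ[∀ i, R i] C) := by
  classical
  let O := ∀ i, R i
  haveI : Algebra.FiniteType O B := inferInstance
  haveI : Algebra.QuasiFinite O B := inferInstance
  let J : Ideal O := ⨅ i, (maximalIdeal (R i)).comap (Pi.evalRingHom R i)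
  haveI : HenselianRing O J := (Groth.Agent.Hensel.henselianRing_pi_iff' _).2 fun i => inferInstance
  have hzero : ∀ p : Ideal (O ⧸ J), p.IsPrime → p.IsMaximal := fun p hp => by
    refine Ideal.isMaximal_iff.2 ⟨fun h1 => hp.ne_top ((Ideal.eq_top_iff_one _).2 h1), fun I x hle hxp hxI => ?_⟩
    obtain ⟨a, rfl⟩ := Ideal.Quotient.mk_surjective x
    let y : O := fun i => if h : IsUnit (a i) then ↑(h.unit⁻¹) else 0
    have hy : Ideal.Quotient.mk J a * (1 - Ideal.Quotient.mk J a * Ideal.Quotient.mk J y) = 0 := by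
      rw [← map_one (Ideal.Quotient.mk J), ← map_mul, ← map_sub, ← map_mul, Ideal.Quotient.eq_zero_iff_mem]
      refine (Groth.Agent.Hensel.eq_ideal_map_of_pi _ _).2 fun i => ?_
      show a i * (1 - a i * y i) ∈ maximalIdeal (R i)
      by_cases h : IsUnit (a i)
      · simp [y, h]
      · exact Ideal.mul_mem_right _ _ h
    have : (1 : O ⧸ J) - Ideal.Quotient.mk J a * Ideal.Quotient.mk J y ∈ p :=
      (hp.mem_or_mem (hy ▸ p.zero_mem)).resolve_left hxp
    simpa using I.add_mem (hle this) (I.mul_mem_right (Ideal.Quotient.mk J y) hxI)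
  let T' := B ⧸ J.map (algebraMap O B)
  haveI : Algebra.QuasiFinite O T' :=
    Algebra.QuasiFinite.of_surjective_algHom (Ideal.Quotient.mkₐ O _) Ideal.Quotient.mk_surjective
  haveI : Algebra.QuasiFinite (O ⧸ J) T' := Algebra.QuasiFinite.of_restrictScalars O (O ⧸ J) T'
  haveI : Algebra.FiniteType (O ⧸ J) T' := Algebra.FiniteType.of_restrictScalars_finiteType O (O ⧸ J) T'
  haveI : Module.Finite (O ⧸ J) T' := finite_of_quasiFinite hzero
  haveI : Module.Finite O T' := Module.Finite.trans (O ⧸ J) T'
  obtain ⟨e, he, he1, hfin⟩ := Groth.Agent.Hensel.exists_idempotent_finite_of_finite_quotient J (A := O) (R := B)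
  let C := B ⧸ Ideal.span ({1 - e} : Set B)
  haveI : IsLocalization.Away e C := IsLocalization.away_of_isIdempotentElem he Ideal.mk_ker Ideal.Quotient.mk_surjective
  haveI : Algebra.Etale B C := Algebra.Etale.of_isLocalizationAway e
  haveI : Algebra.Etale O C := Algebra.Etale.comp O B C
  haveI : Module.Finite O C := hfin
  haveI : Module.Flat O C := inferInstance
  refine ⟨C, inferInstance, inferInstance, inferInstance, inferInstance, ⟨fun n hn htop => ?_⟩,
    ⟨Ideal.Quotient.mkₐ O _⟩⟩
  obtain ⟨Q, hQp, hQ⟩ := Ideal.exists_isPrime_liesOver_of_faithfullyFlat (B := B) n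
  have hJQ : J.map (algebraMap O B) ≤ Q := by
    refine Ideal.map_le_iff_le_comap.2 (fun x hx => ?_)
    have h2 := (Ideal.mem_sInf.1 ((HenselianRing.jac (R := O) (I := J)) hx)) ⟨bot_le, hn⟩
    rw [hQ.over, Ideal.under] at h2
    exact h2
  have hle : Ideal.span ({1 - e} : Set B) ≤ Q := (Ideal.span_singleton_le_iff_mem _).2 (hJQ he1)
  let M := Q.map (Ideal.Quotient.mk (Ideal.span ({1 - e} : Set B)))
  have hc : M.comap (Ideal.Quotient.mk (Ideal.span ({1 - e} : Set B))) = Q := by
    rw [Ideal.comap_map_of_surjective' _ Ideal.Quotient.mk_surjective, Ideal.mk_ker, sup_eq_left]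
    exact hle
  have hsub : n • (⊤ : Submodule O C) ≤ M.restrictScalars O := by
    refine Submodule.smul_le.2 fun a ha x _ => ?_
    rw [Submodule.restrictScalars_mem, Algebra.smul_def]
    refine Ideal.mul_mem_right _ M ?_
    rw [hQ.over, Ideal.under, Ideal.mem_comap, ← hc, Ideal.mem_comap] at ha
    exact ha
  rw [htop] at hsub
  have h1 : (1 : C) ∈ M := hsub Submodule.mem_top
  have h2 : (1 : B) ∈ M.comap (Ideal.Quotient.mk (Ideal.span ({1 - e} : Set B))) := by
    rw [Ideal.mem_comap, map_one]; exact h1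
  rw [hc] at h2
  exact hQp.ne_top ((Ideal.eq_top_iff_one _).2 h2)

end Groth.Agent.TorsQ79
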