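import Groth.Agent.TorsQ79.Trace
import Groth.Agent.TorsQ79.Cof
import Groth.Agent.EtFound.CoprodSections
import Groth.Agent.EtFound.PullStalk

/-!
# Étale cohomology of products of henselian local rings is torsion in positive degrees
-/

set_option autoImplicit false
set_option backward.isDefEq.respectTransparency.types false

universe u

open CategoryTheory CategoryTheory.Limits CategoryTheory.Abelian AlgebraicGeometry Opposite

namespace Groth.Agent.TorsQ79

variable {ι : Type u} (R : ι → Type u) [∀ i, CommRing (R i)] [∀ i, HenselianLocalRing (R i)]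

/-- Locally, a section lifts along an epimorphism over finitely many affines, hence over one affine covering. -/
theorem exists_affine_lift {X : Scheme.{u}} [CompactSpace X] {F G : EtCoh.Ab X} (g : F ⟶ G) [Epi g]
    (s : EtCoh.sect G (EtCoh.top X)) :
    ∃ (U : X.Etale) (p : U ⟶ EtCoh.top X), IsAffine U.left ∧ Surjective U.hom ∧
      ∃ a : EtCoh.sect F U, (g.hom.app (op U)).hom a = (G.obj.map p.op).hom s := by
  classical
  haveI : LocallySmall.{u + 1} X.Etale := ⟨fun _ _ => inferInstance⟩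
  have hloc : Presheaf.IsLocallySurjective X.smallEtaleTopology g.hom :=
    (Sheaf.isLocallySurjective_iff_epi' AddCommGrpCat.{u + 1} g).2 inferInstance
  have hx : ∀ x : X, ∃ (W : X.Etale) (q : W ⟶ EtCoh.top X), IsAffine W.left ∧ x ∈ Set.range W.hom.base ∧
      ∃ a : EtCoh.sect F W, (g.hom.app (op W)).hom a = (G.obj.map q.op).hom s := by
    intro x
    obtain ⟨W, q, w, ⟨a, ha⟩, hw⟩ := (EtFound.mem_topology_iff _).1 (hloc.imageSieve_mem (U := EtCoh.top X) s) x
    obtain ⟨O, hO, hwO, -⟩ := exists_isAffineOpen_mem_and_subset (X := W.left) (x := w) (U := ⊤) trivial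
    let W' := EtFound.restrictEtale W O
    let r := EtFound.restrictEtaleHom W O
    refine ⟨W', r ≫ q, hO, ⟨⟨w, hwO⟩, ?_⟩, (F.obj.map r.op).hom a, ?_⟩
    · show (O.ι ≫ W.hom).base ⟨w, hwO⟩ = x
      rw [← hw, show W.hom = q.left from
        (MorphismProperty.Over.w q).symm.trans (Category.comp_id _)]
      rfl
    · refine (NatTrans.naturality_apply g.hom r.op a).trans ?_
      rw [op_comp, Functor.map_comp]
      exact congrArg (G.obj.map r.op).hom ha
  choose W q hW hmem a ha using hx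
  obtain ⟨t, ht⟩ := isCompact_univ.elim_finite_subcover (fun x : X => Set.range (W x).hom.base)
    (fun x => by
      haveI : AlgebraicGeometry.Etale (W x).hom := (W x).prop
      exact (W x).hom.isOpenMap.isOpen_range) fun x _ => Set.mem_iUnion.2 ⟨x, hmem x⟩
  let J : Type u := t
  let L : J → Scheme.{u} := fun j => (W j.1).left
  let π : (∐ L) ⟶ X := Sigma.desc fun j : J => ((W j.1).hom : L j ⟶ X)
  haveI : ∀ j : J, AlgebraicGeometry.Etale ((W j.1).hom : L j ⟶ X) := fun j => (W j.1).prop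
  haveI : AlgebraicGeometry.Etale π := IsZariskiLocalAtSource.sigmaDesc (P := @AlgebraicGeometry.Etale) fun j => (W j.1).prop
  let U : X.Etale := Scheme.Etale.mk π
  let incl : ∀ j : J, W j.1 ⟶ U := fun j => MorphismProperty.Over.homMk (Sigma.ι L j) (Sigma.ι_desc _ _)
  haveI : ∀ j, Mono (incl j) := fun j => ⟨fun {Z} u v h => MorphismProperty.Over.Hom.ext
    ((cancel_mono (Sigma.ι L j)).1 (congrArg (fun m : Z ⟶ U => m.left) h))⟩
  haveI : ∀ j, IsAffine (L j) := fun j => hW j.1
  have hcovU : ∀ z : U.left, ∃ (j : J) (y : (W j.1).left), (incl j).left.base y = z := fun z => by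
    obtain ⟨j, y, hy⟩ := (sigmaOpenCover L).exists_eq z
    exact ⟨j, y, hy⟩
  have hbij := fun (H : EtCoh.Ab X) => EtFound.bijective_sections_of_disjoint H (W := U) (fun j : J => W j.1) incl hcovU
    fun i j hij y z h => ((disjoint_opensRange_sigmaι L i j hij).le_bot
      (show (Sigma.ι L i).base y ∈ (Sigma.ι L i).opensRange ⊓ (Sigma.ι L j).opensRange from ⟨⟨y, rfl⟩, ⟨z, h.symm⟩⟩) :)
  let p : U ⟶ EtCoh.top X := (EtFound.topIsTerminal X).from U
  obtain ⟨A, hA⟩ := (hbij F).2 fun j => a j.1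
  refine ⟨U, p, inferInstanceAs (IsAffine (∐ L)), ⟨fun x => ?_⟩, A, (hbij G).1 (funext fun j => ?_)⟩
  · obtain ⟨x', hx't, y, hy⟩ := Set.mem_iUnion₂.1 (ht (Set.mem_univ x))
    refine ⟨(incl ⟨x', hx't⟩).left.base y, ?_⟩
    rw [← hy]
    show (Sigma.ι L ⟨x', hx't⟩ ≫ π).base y = _
    rw [Sigma.ι_desc]
  · refine (NatTrans.naturality_apply g.hom (incl j).op A).symm.trans ?_
    refine (congrArg _ (congrFun hA j)).trans ((ha j.1).trans ?_)
    show _ = (G.obj.map (incl j).op).hom ((G.obj.map p.op).hom s)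
    rw [← ConcreteCategory.comp_apply, ← Functor.map_comp, ← op_comp]
    rw [(EtFound.topIsTerminal X).hom_ext (incl j ≫ p) (q j.1)]

/-- Epimorphisms are surjective on global sections up to torsion over a product of henselian local rings. -/
theorem exists_lift_nsmul {F G : EtCoh.Ab (Spec (CommRingCat.of (∀ i, R i)))} (g : F ⟶ G) [Epi g]
    (s : EtCoh.sect G (EtCoh.top (Spec (CommRingCat.of (∀ i, R i))))) :
    ∃ N : ℕ, 0 < N ∧ ∃ b : EtCoh.sect F (EtCoh.top (Spec (CommRingCat.of (∀ i, R i)))),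
      (g.hom.app (op (EtCoh.top _))).hom b = N • s := by
  classical
  let X := Spec (CommRingCat.of (∀ i, R i))
  obtain ⟨U, p, hU, hsurj, a, ha⟩ := exists_affine_lift g s
  let uh : U.left ⟶ X := U.hom
  haveI : AlgebraicGeometry.Etale uh := U.prop
  haveI : Surjective uh := hsurj
  let β := Spec.preimage (U.left.isoSpec.inv ≫ uh)
  letI : Algebra (∀ i, R i) Γ(U.left, ⊤) := β.hom.toAlgebra
  haveI : Surjective (Spec.map β) := by rw [Spec.map_preimage]; infer_instance
  haveI : AlgebraicGeometry.Etale (Spec.map β) := by rw [Spec.map_preimage]; infer_instance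
  haveI : Algebra.Etale (∀ i, R i) Γ(U.left, ⊤) := RingHom.etale_algebraMap.1
    ((HasRingHomProperty.Spec_iff (P := @AlgebraicGeometry.Etale)).1 inferInstance)
  haveI : Module.FaithfullyFlat (∀ i, R i) Γ(U.left, ⊤) :=
    Module.FaithfullyFlat.of_comap_surjective fun x => (Spec.map β).surjective x
  obtain ⟨C, _, _, hfin, het, hff, ⟨θ⟩⟩ := exists_finite_etale_refinement R Γ(U.left, ⊤)
  let π : Spec (CommRingCat.of C) ⟶ X := Spec.map (CommRingCat.ofHom (algebraMap (∀ i, R i) C))
  haveI : IsFinite π := (IsFinite.SpecMap_iff _).2 (RingHom.finite_algebraMap.2 hfin)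
  haveI : AlgebraicGeometry.Etale π :=
    (HasRingHomProperty.Spec_iff (P := @AlgebraicGeometry.Etale)).2 (RingHom.etale_algebraMap.2 het)
  haveI : Surjective π := ⟨fun x => PrimeSpectrum.comap_surjective_of_faithfullyFlat x⟩
  haveI := GalDual.jcont π
  obtain ⟨N, hN⟩ := TorsPi79.exists_finrank_bound π
  let E := (EtShriek.compEtale π).obj ((EtCoh.bc π).obj (EtCoh.top X))
  let pr : ((EtCoh.bc π).obj (EtCoh.top X)).left ⟶ Spec (CommRingCat.of C) := ((EtCoh.bc π).obj (EtCoh.top X)).hom
  have hm : (Spec.map (CommRingCat.ofHom θ.toRingHom) ≫ U.left.isoSpec.inv) ≫ uh = π := by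
    rw [Category.assoc, ← Spec.map_preimage (U.left.isoSpec.inv ≫ uh), ← Spec.map_comp]
    exact congrArg Spec.map (CommRingCat.hom_ext (RingHom.ext θ.commutes))
  let h : E ⟶ U := MorphismProperty.Over.homMk
    (pr ≫ Spec.map (CommRingCat.ofHom θ.toRingHom) ≫ U.left.isoSpec.inv)
    (by
      show (pr ≫ Spec.map _ ≫ U.left.isoSpec.inv) ≫ uh = pr ≫ π
      rw [Category.assoc, hm])
  refine ⟨N.factorial, N.factorial_pos, exists_lift_factorial π hN g _ s ((F.obj.map h.op).hom a) ?_⟩
  refine (NatTrans.naturality_apply g.hom h.op a).trans ?_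
  rw [ha, ← ConcreteCategory.comp_apply, ← Functor.map_comp, ← op_comp]
  rw [(EtFound.topIsTerminal X).hom_ext (h ≫ p) ((GalDual.compBcAdj π).counit.app (EtCoh.top X))]

/-- Positive degree étale cohomology over a product of henselian local rings is torsion. -/
theorem isOfFinAddOrder_H (F : EtCoh.Ab (Spec (CommRingCat.of (∀ i, R i)))) (q : ℕ)
    (x : EtCoh.H (Spec (CommRingCat.of (∀ i, R i))) F (q + 1)) : IsOfFinAddOrder x := by
  have hT : DixBrauer.TorsionAbstract.TorsEpi.{u + 1}
      (DixBrauer.TorsionCoh.Zsh (Spec (CommRingCat.of (∀ i, R i)))) := by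
    intro F G g _ φ
    let hT := EtFound.topIsTerminal (Spec (CommRingCat.of (∀ i, R i)))
    obtain ⟨N, hN, a, ha⟩ := exists_lift_nsmul R g (Sheaf.H.equiv₀ G hT φ)
    refine ⟨N, hN, (Sheaf.H.equiv₀ F hT).symm a, ?_⟩
    refine (Sheaf.H.equiv₀_symm_naturality hT g a).trans ?_
    rw [AddEquiv.symm_apply_eq, map_nsmul]
    exact ha
  exact DixBrauer.TorsionAbstract.isOfFinAddOrder_ext hT q F x

end Groth.Agent.TorsQ79
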