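import Groth.Agent.EtShriekLib.EtaleTrace
import Groth.Agent.TorsPi79.Bij
import Groth.Agent.DixBrauer.TorsionCoh

/-!
# The trace of a finite étale covering of varying rank, and lifting sections up to a factorial
-/

universe u

open CategoryTheory CategoryTheory.Limits AlgebraicGeometry Opposite

namespace Groth.Agent.TorsQ79

open EtShriekLib

set_option backward.isDefEq.respectTransparency.types false
set_option maxHeartbeats 800000

variable {X' X : Scheme.{u}} (π : X' ⟶ X) [IsFinite π] [Etale π]

/-- The number of geometric points over a geometric point is the rank there. -/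
theorem card_ptsOver {Ω : Type u} [Field Ω] [IsSepClosed Ω] (η : Spec (CommRingCat.of Ω) ⟶ X) (d : ℕ)
    (hd : π.finrank (η.base (IsLocalRing.closedPoint Ω)) = d) : Nat.card (EtFound.PtsOver π η) = d := by
  let p : pullback π η ⟶ Spec (CommRingCat.of Ω) := pullback.snd π η
  haveI : IsFinite p := MorphismProperty.pullback_snd _ _ ‹_›
  haveI : Etale p := MorphismProperty.pullback_snd _ _ ‹_›
  haveI : IsAffine (pullback π η) := isAffine_of_isAffineHom p
  obtain ⟨φ, hφ⟩ := Spec.map_surjective ((pullback π η).isoSpec.inv ≫ p)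
  let B := Γ(pullback π η, ⊤)
  letI : Algebra Ω B := φ.hom.toAlgebra
  haveI : Module.Finite Ω B := RingHom.finite_algebraMap.1 (by
    show φ.hom.Finite
    rw [← IsFinite.SpecMap_iff, hφ]
    infer_instance)
  haveI : Algebra.Etale Ω B := RingHom.etale_algebraMap.1 (by
    show φ.hom.Etale
    rw [← HasRingHomProperty.Spec_iff (P := @Etale), hφ]
    infer_instance)
  have hrank : Module.finrank Ω B = d := by
    have h1 : (Spec.map φ).finrank (IsLocalRing.closedPoint Ω) = d := by
      rw [hφ, Scheme.Hom.finrank_comp_left_of_isIso, Scheme.Hom.finrank_pullback_snd]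
      exact hd
    rw [show Spec.map φ = Spec.map (CommRingCat.ofHom (algebraMap Ω B)) from rfl] at h1
    rwa [Scheme.Hom.finrank_SpecMap_algebraMap, Module.rankAtStalk_eq_finrank_of_free] at h1
  rw [← hrank, ← EtShriekLib.card_sections_of_etale_algebra]
  let sec : (B →ₐ[Ω] Ω) → (Spec (CommRingCat.of Ω) ⟶ pullback π η) := fun a =>
    Spec.map (CommRingCat.ofHom a.toRingHom) ≫ (pullback π η).isoSpec.inv
  have hsec : ∀ a, sec a ≫ p = 𝟙 _ := fun a => by
    show (Spec.map _ ≫ _) ≫ p = _
    rw [Category.assoc, ← hφ, ← Spec.map_comp,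
      show φ ≫ CommRingCat.ofHom a.toRingHom = 𝟙 _ from CommRingCat.hom_ext (RingHom.ext fun x => a.commutes x),
      Spec.map_id]
  refine (Nat.card_congr (Equiv.ofBijective (fun a => (⟨sec a ≫ pullback.fst π η, by
    rw [Category.assoc, pullback.condition, ← Category.assoc, hsec, Category.id_comp]⟩ : EtFound.PtsOver π η))
    ⟨fun a b h => ?_, fun z => ?_⟩)).symm
  · have h' : sec a = sec b := pullback.hom_ext (congrArg Subtype.val h) ((hsec a).trans (hsec b).symm)
    have h'' := Spec.map_injective ((cancel_mono (pullback π η).isoSpec.inv).1 h')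
    exact AlgHom.ext fun x => congr(($h'').hom x)
  · let l := pullback.lift z.1 (𝟙 _) (z.2.trans (Category.id_comp _).symm) ≫ (pullback π η).isoSpec.hom
    obtain ⟨a, ha⟩ := Spec.map_surjective l
    have hl : φ ≫ a = 𝟙 _ := Spec.map_injective (by
      rw [Spec.map_comp, ha, hφ, Spec.map_id]
      simp only [l, p, Category.assoc, Iso.hom_inv_id_assoc]
      exact pullback.lift_snd _ _ _)
    refine ⟨{ a.hom with commutes' := fun x => congr(($hl).hom x) }, Subtype.ext ?_⟩
    show (Spec.map a ≫ _) ≫ _ = _
    rw [ha]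
    simp only [l, Category.assoc, Iso.hom_inv_id_assoc]
    exact pullback.lift_fst _ _ _

variable [EtCoh.BCCont π] [EtShriek.JCont π]

/-- The trace of sections over the covering. -/
noncomputable def tr (F : EtCoh.Ab X) : (EtCoh.push π).obj ((EtShriek.restrAlong π).obj F) ⟶ F :=
  (extZeroPush π).inv.app ((EtShriek.restrAlong π).obj F) ≫ (EtShriek.extZeroAdj π).counit.app F

/-- Restriction followed by the trace. -/
noncomputable def degEnd (F : EtCoh.Ab X) : F ⟶ F :=
  restrUnit π F ≫ tr π F

theorem stalk_degEnd (F : EtCoh.Ab X) {Ω : Type u} [Field Ω] [IsAlgClosed Ω]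
    (η : Spec (CommRingCat.of Ω) ⟶ X) (d : ℕ) (hd : Nat.card (EtFound.PtsOver π η) = d)
    (x : (EtCoh.stalk η).obj F) : (EtCoh.stalk η).map (degEnd π F) x = d • x := by
  unfold degEnd tr
  obtain ⟨V, v, s, rfl⟩ := (Scheme.pointSmallEtale η).toPresheafFiber_jointly_surjective x
  classical
  haveI : Finite (EtFound.PtsOver π η) := EtFound.finite_ptsOver π η
  haveI := Fintype.ofFinite (EtFound.PtsOver π η)
  let R := (EtShriek.restrAlong π).obj F
  let us : EtCoh.sect R ((EtCoh.bc π).obj V) := (restrUnit π F).hom.app (op V) s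
  let a : ∀ z : EtFound.PtsOver π η, (EtCoh.stalk z.1).obj R := fun z =>
    (Scheme.pointSmallEtale z.1).toPresheafFiber ((EtCoh.bc π).obj V) (EtFound.liftPt π z.2 v) R.obj us
  let p := ∑ z : EtFound.PtsOver π η, EtFound.extZeroι π η R z (a z)
  have := isIso_shriekShι π R
  obtain ⟨t, ht⟩ := ((ConcreteCategory.isIso_iff_bijective (((shriekShι π).app R).hom.app (op V))).1
    (inferInstanceAs (IsIso (((sheafToPresheaf _ _).map ((shriekShι π).app R)).app (op V))))).2 us
  let q := (Scheme.pointSmallEtale η).toPresheafFiber V v ((shriekSh π).obj R).obj t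
  have hq : (EtCoh.stalk η).map (extZeroToShriek π R) p = q := by
    refine ext_stalkMapAt π R _ _ fun ξ hξ => ?_
    simp only [p, map_sum]
    rw [Finset.sum_eq_single (⟨ξ, hξ⟩ : EtFound.PtsOver π η) (fun z' _ hne =>
      (stalkMapAt_extZeroι π R η z' ⟨ξ, hξ⟩ _).trans (dif_neg hne)) (fun h => absurd (Finset.mem_univ _) h)]
    refine (stalkMapAt_extZeroι π R η _ ⟨ξ, hξ⟩ _).trans ((dif_pos rfl).trans ?_)
    exact (congrArg _ ht.symm).trans (stalkMapAt_germ π hξ R v t).symm
  have hE : (EtCoh.stalk η).map ((extZeroPush π).hom.app R) p =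
      (EtCoh.stalk η).map (restrUnit π F) ((Scheme.pointSmallEtale η).toPresheafFiber V v F.obj s) := by
    refine (congrArg (fun g => g p) (congrArg (DFunLike.coe (F := AddMonoidHom _ _) ∘ AddCommGrpCat.Hom.hom)
      ((EtCoh.stalk η).map_comp (extZeroToShriek π R) ((shriekShι π).app R)))).trans ?_
    refine (congrArg ((EtCoh.stalk η).map ((shriekShι π).app R)) hq).trans ?_
    exact ((Scheme.pointSmallEtale η).toPresheafFiber_naturality_apply ((shriekShι π).app R).hom V v t).trans
      ((congrArg _ ht).trans ((Scheme.pointSmallEtale η).toPresheafFiber_naturality_apply (restrUnit π F).hom V v s).symm)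
  have hε : (EtCoh.stalk η).map ((EtShriek.extZeroAdj π).counit.app F) p =
      d • (Scheme.pointSmallEtale η).toPresheafFiber V v F.obj s := by
    have h : ∀ z, (EtCoh.stalk η).map ((EtShriek.extZeroAdj π).counit.app F) (EtFound.extZeroι π η R z (a z)) =
        (Scheme.pointSmallEtale η).toPresheafFiber V v F.obj s := fun z => by
      refine (congrArg ((EtCoh.stalk η).map ((EtShriek.extZeroAdj π).counit.app F))
        (ConcreteCategory.congr_hom (EtFound.extZeroι_germ π η R z _ (EtFound.liftPt π z.2 v)) us)).trans ?_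
      refine ((Scheme.pointSmallEtale η).toPresheafFiber_naturality_apply ((EtShriek.extZeroAdj π).counit.app F).hom _ _ _).trans ?_
      have htri' := (EtShriek.extZeroAdj π).right_triangle_components F
      have htri := congr(($htri').hom.app (op ((EtCoh.bc π).obj V)) us)
      refine (congrArg ((Scheme.pointSmallEtale η).toPresheafFiber _ (EtFound.extLiftPt z _ (EtFound.liftPt π z.2 v)) F.obj) htri).trans ?_
      refine Eq.trans ((Scheme.pointSmallEtale η).toPresheafFiber_w_apply ((GalDual.compBcAdj π).counit.app V)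
        (EtFound.extLiftPt z _ (EtFound.liftPt π z.2 v)) F.obj s) ?_
      rw [counit_liftPt]
      rfl
    simp only [p, map_sum, h, Finset.sum_const, Finset.card_univ, ← Nat.card_eq_fintype_card,
      hd]
    rfl
  simp only [Functor.map_comp, ConcreteCategory.comp_apply]
  have hd' : (AddCommGrpCat.Hom.hom ((EtCoh.stalk η).map (d • 𝟙 F)))
      ((Scheme.pointSmallEtale η).toPresheafFiber V v F.obj s) =
      d • (Scheme.pointSmallEtale η).toPresheafFiber V v F.obj s := by
    refine ((Scheme.pointSmallEtale η).toPresheafFiber_naturality_apply (d • 𝟙 F : F ⟶ F).hom V v s).trans ?_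
    refine Eq.trans (congrArg _ ?_) (map_nsmul _ d s)
    have e : (sheafToPresheaf X.smallEtaleTopology AddCommGrpCat.{u + 1}).map (d • 𝟙 F) = d • 𝟙 F.obj := by
      rw [Functor.map_nsmul, CategoryTheory.Functor.map_id]; rfl
    have e' := congr(($e).app (op V) s)
    refine e'.trans ?_
    simp [NatTrans.app_nsmul]
  refine (congrArg (fun y => (EtCoh.stalk η).map ((EtShriek.extZeroAdj π).counit.app F)
    ((EtCoh.stalk η).map ((extZeroPush π).inv.app R) y)) hE.symm).trans ?_
  refine (congrArg ((EtCoh.stalk η).map ((EtShriek.extZeroAdj π).counit.app F))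
    ((ConcreteCategory.comp_apply _ _ p).symm.trans (ConcreteCategory.congr_hom
      (((EtCoh.stalk η).map_comp _ _).symm.trans ((congrArg (EtCoh.stalk η).map (Iso.hom_inv_id_app _ _)).trans
        ((EtCoh.stalk η).map_id _))) p))).trans ?_
  exact hε

theorem tr_naturality {F G : EtCoh.Ab X} (g : F ⟶ G) :
    (EtCoh.push π).map ((EtShriek.restrAlong π).map g) ≫ tr π G = tr π F ≫ g := by
  unfold tr
  rw [← Category.assoc, (extZeroPush π).inv.naturality, Category.assoc, Category.assoc]
  exact congrArg ((extZeroPush π).inv.app _ ≫ ·) ((EtShriek.extZeroAdj π).counit.naturality g)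

theorem degEnd_naturality {F G : EtCoh.Ab X} (g : F ⟶ G) : g ≫ degEnd π G = degEnd π F ≫ g := by
  have h : g ≫ restrUnit π G = restrUnit π F ≫ (EtCoh.push π).map ((EtShriek.restrAlong π).map g) :=
    ((GalDual.compBcAdj π).sheafPushforwardContinuous (E := AddCommGrpCat.{u + 1})
      X'.smallEtaleTopology X.smallEtaleTopology).unit.naturality g
  rw [degEnd, degEnd, ← Category.assoc, h, Category.assoc, tr_naturality, ← Category.assoc]

/-- The quotient of `k!` by the degree endomorphism. -/
noncomputable def quo (F : EtCoh.Ab X) : ℕ → (F ⟶ F)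
  | 0 => 0
  | k + 1 => (k + 1) • quo F k + (Nat.factorial k • 𝟙 F - degEnd π F ≫ quo F k)

theorem quo_naturality {F G : EtCoh.Ab X} (g : F ⟶ G) : ∀ k, g ≫ quo π G k = quo π F k ≫ g
  | 0 => by simp [quo]
  | k + 1 => by
    simp only [quo, Preadditive.comp_add, Preadditive.add_comp, Preadditive.comp_sub, Preadditive.sub_comp,
      Preadditive.comp_nsmul, Preadditive.nsmul_comp, Category.comp_id, Category.id_comp, quo_naturality g k,
      ← Category.assoc, degEnd_naturality π g]
    simp only [Category.assoc, quo_naturality g k]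

theorem defect_succ (F : EtCoh.Ab X) (k : ℕ) :
    Nat.factorial (k + 1) • 𝟙 F - degEnd π F ≫ quo π F (k + 1) =
      (k + 1) • (Nat.factorial k • 𝟙 F - degEnd π F ≫ quo π F k) -
        degEnd π F ≫ (Nat.factorial k • 𝟙 F - degEnd π F ≫ quo π F k) := by
  rw [quo, Preadditive.comp_add, Preadditive.comp_nsmul, smul_sub, smul_smul, Nat.factorial_succ]
  abel

theorem stalk_defect (F : EtCoh.Ab X) {Ω : Type u} [Field Ω] [IsAlgClosed Ω]
    (η : Spec (CommRingCat.of Ω) ⟶ X) (hc : 0 < Nat.card (EtFound.PtsOver π η)) :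
    ∀ (k : ℕ), Nat.card (EtFound.PtsOver π η) ≤ k →
      (EtCoh.stalk η).map (Nat.factorial k • 𝟙 F - degEnd π F ≫ quo π F k) = 0 := by
  haveI : (EtCoh.stalk η).Additive := Functor.additive_of_preserves_binary_products _
  intro k
  induction k with
  | zero => intro hk; omega
  | succ k ih =>
    intro hk
    rw [defect_succ, Functor.map_sub, Functor.map_nsmul, Functor.map_comp]
    rcases Nat.lt_or_ge k (Nat.card (EtFound.PtsOver π η)) with hlt | hge
    · refine AddCommGrpCat.ext fun x => ?_
      have hcd : Nat.card (EtFound.PtsOver π η) = k + 1 := by omega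
      simp only [AddCommGrpCat.hom_sub, AddCommGrpCat.hom_nsmul, AddCommGrpCat.hom_zero,
        AddCommGrpCat.hom_comp, AddMonoidHom.sub_apply, AddMonoidHom.nsmul_apply, AddMonoidHom.comp_apply,
        AddMonoidHom.zero_apply]
      erw [stalk_degEnd π F η _ hcd x, map_nsmul, sub_self]
    · rw [ih hge, smul_zero, comp_zero, sub_zero]

theorem degEnd_comp_quo [Surjective π] {N : ℕ} (hN : ∀ x, π.finrank x ≤ N) (F : EtCoh.Ab X) :
    degEnd π F ≫ quo π F N = Nat.factorial N • 𝟙 F := by
  refine (sub_eq_zero.1 (hom_ext_algClosed fun Ω _ _ η => ?_)).symm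
  have hc := card_ptsOver π η _ rfl
  haveI : (EtCoh.stalk η).Additive := Functor.additive_of_preserves_binary_products _
  rw [Functor.map_zero]
  refine stalk_defect π F η ?_ N (hc ▸ hN _)
  rw [hc]
  exact Nat.pos_of_ne_zero fun h => by
    have h1 := Scheme.Hom.one_le_finrank_iff_surjective (f := π) |>.2 inferInstance (η.base (IsLocalRing.closedPoint Ω))
    rw [h] at h1
    exact absurd h1 (by simp)

/-- A section which lifts over a finite étale covering lifts up to a factorial. -/
theorem exists_lift_factorial [Surjective π] {N : ℕ} (hN : ∀ x, π.finrank x ≤ N) {F G : EtCoh.Ab X} (g : F ⟶ G)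
    (V : X.Etale) (s : EtCoh.sect G V) (a : EtCoh.sect F ((EtShriek.compEtale π).obj ((EtCoh.bc π).obj V)))
    (ha : (g.hom.app (op ((EtShriek.compEtale π).obj ((EtCoh.bc π).obj V)))).hom a =
      (G.obj.map ((GalDual.compBcAdj π).counit.app V).op).hom s) :
    ∃ b : EtCoh.sect F V, (g.hom.app (op V)).hom b = Nat.factorial N • s := by
  let ψ := ((tr π F).hom.app (op V)).hom a
  have h1 : (g.hom.app (op V)).hom ψ = ((degEnd π G).hom.app (op V)).hom s := by
    have h := congr(($(tr_naturality π g)).hom.app (op V))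
    refine (congr(($h).hom a)).symm.trans ?_
    exact congrArg ((tr π G).hom.app (op V)).hom ha
  refine ⟨((quo π F N).hom.app (op V)).hom ψ, ?_⟩
  refine (congr((($(quo_naturality π g N)).hom.app (op V)).hom ψ)).symm.trans ?_
  refine (congrArg ((quo π G N).hom.app (op V)).hom h1).trans ?_
  refine (congr((($(degEnd_comp_quo π hN G)).hom.app (op V)).hom s)).trans ?_
  exact DixBrauer.TorsionCoh.app_nsmul (𝟙 G) _ V s

end Groth.Agent.TorsQ79
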